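import Mathlib
import Groth.Prelude.Def_W4c5modbuncurvesppStab
import Groth.Agent.Lib.Helper8.MTree7

set_option autoImplicit false
set_option linter.unusedSectionVars false

/-!
# Connectivity of vertex subsets of a multigraph along an edge set, components, and two
induction principles (helper2, for the PhiStab rows)
-/

universe u

namespace Groth.Agent.Lib.Helper2.PhiStabLib

open Groth.Agent.Lib.Helper8.MTree Finset

variable {V E : Type u} [Fintype V] [Fintype E] [DecidableEq V] [DecidableEq E]
variable (ends : E → V × V)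

/-- one step inside `S` along an edge of `F` -/
def StepIn (F : Finset E) (S : Finset V) (a b : V) : Prop := a ∈ S ∧ b ∈ S ∧ SAdj ends F a b

/-- connected inside `S` along `F` -/
def ConnIn (F : Finset E) (S : Finset V) : V → V → Prop := Relation.ReflTransGen (StepIn ends F S)

/-- `S` is nonempty and connected along `F` -/
def ConnOn (F : Finset E) (S : Finset V) : Prop :=
  S.Nonempty ∧ ∀ v ∈ S, ∀ w ∈ S, ConnIn ends F S v w

/-- no edges of `F` between `A` and `B` -/
def NoEdges (F : Finset E) (A B : Finset V) : Prop := ∀ a ∈ A, ∀ b ∈ B, ¬ SAdj ends F a b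

open Classical in
/-- the component of `v` in `S` -/
noncomputable def comp (F : Finset E) (S : Finset V) (v : V) : Finset V :=
  S.filter (fun w => ConnIn ends F S v w)

variable {ends}
variable {F : Finset E} {S S' : Finset V} {a b c v w x : V}

lemma StepIn.symm (h : StepIn ends F S a b) : StepIn ends F S b a := ⟨h.2.1, h.1, h.2.2.symm⟩

lemma ConnIn.refl (a : V) : ConnIn ends F S a a := Relation.ReflTransGen.refl

lemma ConnIn.trans (h1 : ConnIn ends F S a b) (h2 : ConnIn ends F S b c) : ConnIn ends F S a c :=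
  Relation.ReflTransGen.trans h1 h2

lemma ConnIn.symm (h : ConnIn ends F S a b) : ConnIn ends F S b a := by
  induction h with
  | refl => exact Relation.ReflTransGen.refl
  | tail _ h ih => exact Relation.ReflTransGen.head h.symm ih

lemma ConnIn.mono (hS : S ⊆ S') (h : ConnIn ends F S a b) : ConnIn ends F S' a b :=
  Relation.ReflTransGen.mono (fun _ _ h => ⟨hS h.1, hS h.2.1, h.2.2⟩) _ _ h

lemma ConnIn.mem_right (h : ConnIn ends F S a b) (ha : a ∈ S) : b ∈ S := by
  induction h with
  | refl => exact ha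
  | tail _ h _ => exact h.2.1

lemma ConnIn.conn (h : ConnIn ends F S a b) : Conn ends F a b :=
  Relation.ReflTransGen.mono (fun _ _ h => h.2.2) _ _ h

lemma ConnIn.step (ha : a ∈ S) (hb : b ∈ S) (h : SAdj ends F a b) : ConnIn ends F S a b :=
  Relation.ReflTransGen.single ⟨ha, hb, h⟩

lemma mem_comp : w ∈ comp ends F S v ↔ w ∈ S ∧ ConnIn ends F S v w := by
  classical
  unfold comp
  rw [Finset.mem_filter]

lemma self_mem_comp (hv : v ∈ S) : v ∈ comp ends F S v := mem_comp.mpr ⟨hv, ConnIn.refl v⟩

lemma comp_subset : comp ends F S v ⊆ S := fun _ hw => (mem_comp.mp hw).1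

lemma comp_closed (hw : w ∈ comp ends F S v) (hx : x ∈ S) (h : SAdj ends F w x) :
    x ∈ comp ends F S v := by
  obtain ⟨hwS, hvw⟩ := mem_comp.mp hw
  exact mem_comp.mpr ⟨hx, hvw.tail ⟨hwS, hx, h⟩⟩

lemma connIn_comp (hw : w ∈ comp ends F S v) : ConnIn ends F (comp ends F S v) v w := by
  have hvw := (mem_comp.mp hw).2
  clear hw
  induction hvw with
  | refl => exact ConnIn.refl v
  | @tail a b hva hab ih =>
    have haC : a ∈ comp ends F S v := mem_comp.mpr ⟨hab.1, hva⟩
    have hbC : b ∈ comp ends F S v := comp_closed haC hab.2.1 hab.2.2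
    exact ih.tail ⟨haC, hbC, hab.2.2⟩

lemma connOn_comp (hv : v ∈ S) : ConnOn ends F (comp ends F S v) := by
  refine ⟨⟨v, self_mem_comp hv⟩, fun a ha b hb => ?_⟩
  exact (connIn_comp ha).symm.trans (connIn_comp hb)

lemma noEdges_comp : NoEdges ends F (comp ends F S v) (S \ comp ends F S v) := by
  intro a ha b hb hab
  rw [Finset.mem_sdiff] at hb
  exact hb.2 (comp_closed ha hb.1 hab)

lemma exists_boundary_step {B : Finset V} (h : Conn ends F v a) (hv : v ∈ B) (ha : a ∉ B) :
    ∃ b ∈ B, ∃ u, u ∉ B ∧ SAdj ends F b u := by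
  induction h using Relation.ReflTransGen.head_induction_on with
  | refl => exact absurd hv ha
  | @head v v' hstep _ ih =>
    by_cases hv' : v' ∈ B
    · exact ih hv'
    · exact ⟨v, hv, v', hv', hstep⟩

lemma exists_connIn_to {A B : Finset V} (hG : ∀ v w, Conn ends F v w) (hA : A.Nonempty)
    (hcl : ∀ x, x ∉ A → ∀ y ∈ B, SAdj ends F x y → x ∈ B) (hw : w ∉ B) :
    ∃ a ∈ A, ConnIn ends F Bᶜ w a := by
  obtain ⟨a₀, ha₀⟩ := hA
  have h := hG w a₀
  induction h using Relation.ReflTransGen.head_induction_on with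
  | refl => exact ⟨a₀, ha₀, ConnIn.refl _⟩
  | @head w u hstep _ ih =>
    by_cases hwA : w ∈ A
    · exact ⟨w, hwA, ConnIn.refl _⟩
    · have hu : u ∉ B := fun huB => hw (hcl w hwA u huB hstep)
      obtain ⟨a, haA, hua⟩ := ih hu
      refine ⟨a, haA, Relation.ReflTransGen.head ⟨?_, ?_, hstep⟩ hua⟩
      · exact Finset.mem_compl.mpr hw
      · exact Finset.mem_compl.mpr hu

/-- the complement of a component of the complement of a connected set is connected -/
lemma connOn_compl_comp {A : Finset V} (hG : ∀ v w, Conn ends F v w) (hA : ConnOn ends F A)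
    (hv : v ∈ Aᶜ) : ConnOn ends F (comp ends F Aᶜ v)ᶜ := by
  set B := comp ends F Aᶜ v with hB
  have hAB : A ⊆ Bᶜ := by
    intro a ha
    rw [Finset.mem_compl]
    intro haB
    exact (Finset.mem_compl.mp (comp_subset haB)) ha
  have hcl : ∀ x, x ∉ A → ∀ y ∈ B, SAdj ends F x y → x ∈ B := by
    intro x hx y hy hxy
    exact comp_closed hy (Finset.mem_compl.mpr hx) hxy.symm
  obtain ⟨a₀, ha₀⟩ := hA.1
  refine ⟨⟨a₀, hAB ha₀⟩, fun x hx y hy => ?_⟩
  obtain ⟨a, haA, hxa⟩ := exists_connIn_to hG hA.1 hcl (Finset.mem_compl.mp hx)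
  obtain ⟨a', haA', hya'⟩ := exists_connIn_to hG hA.1 hcl (Finset.mem_compl.mp hy)
  exact hxa.trans (((hA.2 a haA a' haA').mono hAB).trans hya'.symm)

/-- a connected set together with a component of its complement is connected -/
lemma connOn_union_comp {A : Finset V} (hG : ∀ v w, Conn ends F v w) (hA : ConnOn ends F A)
    (hv : v ∈ Aᶜ) : ConnOn ends F (A ∪ comp ends F Aᶜ v) := by
  set B := comp ends F Aᶜ v with hB
  have hBc : ConnOn ends F B := connOn_comp hv
  obtain ⟨a₀, ha₀⟩ := hA.1
  have ha₀B : a₀ ∉ B := fun h => (Finset.mem_compl.mp (comp_subset h)) ha₀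
  obtain ⟨b, hbB, u, huB, hbu⟩ := exists_boundary_step (hG v a₀) (self_mem_comp hv) ha₀B
  have huA : u ∈ A := by
    by_contra huA
    exact huB (comp_closed hbB (Finset.mem_compl.mpr huA) hbu)
  have hbridge : ConnIn ends F (A ∪ B) b u :=
    ConnIn.step (Finset.mem_union_right _ hbB) (Finset.mem_union_left _ huA) hbu
  have toU : ∀ x ∈ A ∪ B, ConnIn ends F (A ∪ B) x u := by
    intro x hx
    rcases Finset.mem_union.mp hx with hxA | hxB
    · exact (hA.2 x hxA u huA).mono Finset.subset_union_left
    · exact ((hBc.2 x hxB b hbB).mono Finset.subset_union_right).trans hbridge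
  exact ⟨⟨a₀, Finset.mem_union_left _ ha₀⟩, fun x hx y hy => (toU x hx).trans (toU y hy).symm⟩

variable (ends) in
/-- additivity over disjoint unions with no `F`-edges in between -/
def IsAdd {M : Type*} [AddCommMonoid M] (F : Finset E) (h : Finset V → M) : Prop :=
  ∀ A B : Finset V, Disjoint A B → NoEdges ends F A B → h (A ∪ B) = h A + h B

theorem P1 {M : Type*} [AddCommMonoid M] {h : Finset V → M} (hadd : IsAdd ends F h)
    (Q : M → Prop) (hQ : ∀ x y, Q x → Q y → Q (x + y))
    (hc : ∀ A, ConnOn ends F A → A ≠ Finset.univ → Q (h A)) :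
    ∀ S : Finset V, S.Nonempty → S ≠ Finset.univ → Q (h S) := by
  intro S
  induction' hn : S.card using Nat.strong_induction_on with n ih generalizing S
  intro hne hS
  obtain ⟨v, hv⟩ := hne
  set C := comp ends F S v with hC
  have hCS : C ⊆ S := comp_subset
  have hCu : C ≠ Finset.univ := by
    intro h
    apply hS
    rw [Finset.eq_univ_iff_forall] at h ⊢
    exact fun x => hCS (h x)
  by_cases hEq : C = S
  · rw [← hEq]
    exact hc C (connOn_comp hv) hCu
  · have hdec : S = C ∪ (S \ C) := (Finset.union_sdiff_of_subset hCS).symm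
    have hdisj : Disjoint C (S \ C) := Finset.disjoint_sdiff
    have hne' : (S \ C).Nonempty := by
      rw [Finset.nonempty_iff_ne_empty, Ne, Finset.sdiff_eq_empty_iff_subset]
      intro h
      exact hEq (Finset.Subset.antisymm hCS h)
    have hu' : S \ C ≠ Finset.univ := by
      intro h
      apply hS
      rw [Finset.eq_univ_iff_forall] at h ⊢
      exact fun x => (Finset.mem_sdiff.mp (h x)).1
    have hcard : (S \ C).card < n := by
      rw [← hn]
      apply Finset.card_lt_card
      refine ⟨Finset.sdiff_subset, fun h => ?_⟩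
      have := h hv
      exact (Finset.mem_sdiff.mp this).2 (self_mem_comp hv)
    rw [hdec, hadd C (S \ C) hdisj noEdges_comp]
    exact hQ _ _ (hc C (connOn_comp hv) hCu) (ih _ hcard (S \ C) rfl hne' hu')

theorem P2 {M : Type*} [AddCommMonoid M] {h : Finset V → M} (hG : ∀ v w, Conn ends F v w)
    (hadd : IsAdd ends F h)
    (Q : M → Prop) (hQ : ∀ x y, Q x → Q y → Q (x + y))
    (he : ∀ B, ConnOn ends F B → ConnOn ends F Bᶜ → Q (h B)) :
    ∀ A : Finset V, ConnOn ends F A → A ≠ Finset.univ → Q (h Aᶜ) := by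
  intro A
  induction' hn : Aᶜ.card using Nat.strong_induction_on with n ih generalizing A
  intro hA hAu
  have : ∃ v, v ∈ Aᶜ := by
    by_contra hcon
    apply hAu
    rw [Finset.eq_univ_iff_forall]
    intro x
    by_contra hx
    exact hcon ⟨x, Finset.mem_compl.mpr hx⟩
  obtain ⟨v, hv⟩ := this
  set B := comp ends F Aᶜ v with hB
  have hBA : B ⊆ Aᶜ := comp_subset
  have hQB : Q (h B) := he B (connOn_comp hv) (connOn_compl_comp hG hA hv)
  by_cases hEq : B = Aᶜ
  · rw [← hEq]; exact hQB
  · have hdec : Aᶜ = B ∪ (Aᶜ \ B) := (Finset.union_sdiff_of_subset hBA).symm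
    have hcompl : (A ∪ B)ᶜ = Aᶜ \ B := by
      ext x
      simp only [Finset.mem_compl, Finset.mem_union, Finset.mem_sdiff, not_or]
    have hne' : (Aᶜ \ B).Nonempty := by
      rw [Finset.nonempty_iff_ne_empty, Ne, Finset.sdiff_eq_empty_iff_subset]
      intro h
      exact hEq (Finset.Subset.antisymm hBA h)
    have hu' : A ∪ B ≠ Finset.univ := by
      intro h
      obtain ⟨x, hx⟩ := hne'
      rw [← hcompl, Finset.mem_compl, h] at hx
      exact hx (Finset.mem_univ _)
    have hcard : (A ∪ B)ᶜ.card < n := by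
      rw [← hn, hcompl]
      apply Finset.card_lt_card
      refine ⟨Finset.sdiff_subset, fun h => ?_⟩
      have := h hv
      exact (Finset.mem_sdiff.mp this).2 (self_mem_comp hv)
    have hIH := ih _ hcard (A ∪ B) rfl (connOn_union_comp hG hA hv) hu'
    rw [hcompl] at hIH
    rw [hdec, hadd B (Aᶜ \ B) Finset.disjoint_sdiff noEdges_comp]
    exact hQ _ _ hQB hIH

end Groth.Agent.Lib.Helper2.PhiStabLib
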