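import Groth.Agent.Lib.Helper2.PhiStab.Conn

set_option autoImplicit false
set_option linter.unusedSectionVars false

/-!
# The defect function of a sheaf datum, its additivity, and reduction of (semi)stability to
`F`-elementary vertex sets (helper2, for the PhiStab rows)
-/

universe u

namespace Groth.Agent.Lib.Helper2.PhiStabLib

open Groth.Agent.Lib.Helper8.MTree PhiStab Finset

variable {V E : Type u} [Fintype V] [Fintype E] [DecidableEq V] [DecidableEq E]
variable (ends : E → V × V) (φ : V → ℝ) (m : V → ℤ) (N : Finset E)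

/-- the edge `e` crosses `S` -/
def Cross (S : Finset V) (e : E) : Prop :=
  ((ends e).1 ∈ S ∧ (ends e).2 ∉ S) ∨ ((ends e).1 ∉ S ∧ (ends e).2 ∈ S)

instance (S : Finset V) : DecidablePred (Cross ends S) := by
  unfold Cross; infer_instance

/-- the defect of the datum on `S` -/
noncomputable def gS (S : Finset V) : ℝ :=
  (degOn ends m N S : ℝ) - (∑ v ∈ S, φ v) + (LabGraph.cut ends S : ℝ) / 2

/-- number of crossing edges outside `N` -/
noncomputable def cS (S : Finset V) : ℝ :=
  ∑ e : E, (if Cross ends S e ∧ e ∉ N then (1:ℝ) else 0)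

/-- edge weight -/
noncomputable def wE (S : Finset V) (e : E) : ℝ :=
  (if e ∈ N ∧ (ends e).1 ∈ S ∧ (ends e).2 ∈ S then 1 else 0) + (if Cross ends S e then 1 else 0) / 2

lemma gS_eq (S : Finset V) :
    gS ends φ m N S = ∑ v ∈ S, ((m v : ℝ) - φ v) + ∑ e, wE ends N S e := by
  have h1 : N ∩ inner ends S =
      Finset.univ.filter (fun e => e ∈ N ∧ (ends e).1 ∈ S ∧ (ends e).2 ∈ S) := by
    ext e; simp [PhiStab.inner]
  have h2 : LabGraph.cut ends S = (Finset.univ.filter (fun e => Cross ends S e)).card := rfl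
  unfold gS degOn wE
  rw [h1, h2, Finset.card_filter, Finset.card_filter]
  push_cast
  rw [Finset.sum_add_distrib, Finset.sum_sub_distrib, Finset.sum_div]
  ring

variable {ends}

lemma wE_union {F : Finset E} (hN : ∀ e, e ∉ F → e ∈ N) {A B : Finset V} (hdisj : Disjoint A B)
    (hno : NoEdges ends F A B) (e : E) :
    wE ends N (A ∪ B) e = wE ends N A e + wE ends N B e := by
  have hd1 : (ends e).1 ∈ A → (ends e).1 ∉ B := fun h => Finset.disjoint_left.mp hdisj h
  have hd2 : (ends e).2 ∈ A → (ends e).2 ∉ B := fun h => Finset.disjoint_left.mp hdisj h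
  have hb1 : (ends e).1 ∈ A → (ends e).2 ∈ B → e ∈ N := by
    intro h1 h2
    apply hN
    intro heF
    exact hno _ h1 _ h2 ⟨e, heF, Or.inl rfl⟩
  have hb2 : (ends e).2 ∈ A → (ends e).1 ∈ B → e ∈ N := by
    intro h1 h2
    apply hN
    intro heF
    exact hno _ h1 _ h2 ⟨e, heF, Or.inr rfl⟩
  unfold wE Cross
  by_cases h1 : (ends e).1 ∈ A <;> by_cases h2 : (ends e).2 ∈ A <;>
  by_cases h3 : (ends e).1 ∈ B <;> by_cases h4 : (ends e).2 ∈ B <;>
  by_cases h5 : e ∈ N <;> simp_all <;> norm_num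

lemma cross_union_term {F : Finset E} (hN : ∀ e, e ∉ F → e ∈ N) {A B : Finset V}
    (hdisj : Disjoint A B) (hno : NoEdges ends F A B) (e : E) :
    (if Cross ends (A ∪ B) e ∧ e ∉ N then (1:ℝ) else 0) =
      (if Cross ends A e ∧ e ∉ N then (1:ℝ) else 0) + (if Cross ends B e ∧ e ∉ N then (1:ℝ) else 0) := by
  have hd1 : (ends e).1 ∈ A → (ends e).1 ∉ B := fun h => Finset.disjoint_left.mp hdisj h
  have hd2 : (ends e).2 ∈ A → (ends e).2 ∉ B := fun h => Finset.disjoint_left.mp hdisj h
  have hb1 : (ends e).1 ∈ A → (ends e).2 ∈ B → e ∈ N := by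
    intro h1 h2
    apply hN
    intro heF
    exact hno _ h1 _ h2 ⟨e, heF, Or.inl rfl⟩
  have hb2 : (ends e).2 ∈ A → (ends e).1 ∈ B → e ∈ N := by
    intro h1 h2
    apply hN
    intro heF
    exact hno _ h1 _ h2 ⟨e, heF, Or.inr rfl⟩
  unfold Cross
  by_cases h1 : (ends e).1 ∈ A <;> by_cases h2 : (ends e).2 ∈ A <;>
  by_cases h3 : (ends e).1 ∈ B <;> by_cases h4 : (ends e).2 ∈ B <;>
  by_cases h5 : e ∈ N <;> simp_all

lemma gS_isAdd {F : Finset E} (hN : ∀ e, e ∉ F → e ∈ N) : IsAdd ends F (gS ends φ m N) := by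
  intro A B hdisj hno
  rw [gS_eq, gS_eq, gS_eq, Finset.sum_union hdisj,
    Finset.sum_congr rfl (fun e _ => wE_union N hN hdisj hno e), Finset.sum_add_distrib]
  ring

lemma cS_isAdd {F : Finset E} (hN : ∀ e, e ∉ F → e ∈ N) : IsAdd ends F (cS ends N) := by
  intro A B hdisj hno
  unfold cS
  rw [Finset.sum_congr rfl (fun e _ => cross_union_term N hN hdisj hno e), Finset.sum_add_distrib]

lemma cS_compl (S : Finset V) : cS ends N Sᶜ = cS ends N S := by
  unfold cS
  refine Finset.sum_congr rfl fun e _ => ?_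
  unfold Cross
  by_cases h1 : (ends e).1 ∈ S <;> by_cases h2 : (ends e).2 ∈ S <;> simp [h1, h2]

lemma wE_compl_term (S : Finset V) (e : E) :
    wE ends N S e + wE ends N Sᶜ e - (if e ∈ N then (1:ℝ) else 0) =
      (if Cross ends S e ∧ e ∉ N then (1:ℝ) else 0) := by
  unfold wE Cross
  by_cases h1 : (ends e).1 ∈ S <;> by_cases h2 : (ends e).2 ∈ S <;>
  by_cases h5 : e ∈ N <;> simp [h1, h2, h5] <;> norm_num

variable (ends) in
/-- complement formula -/
lemma gS_add_compl (hdeg : (∑ v : V, φ v) = (totDeg m N : ℝ)) (S : Finset V) :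
    gS ends φ m N S + gS ends φ m N Sᶜ = cS ends N S := by
  have hNc : (N.card : ℝ) = ∑ e : E, (if e ∈ N then (1:ℝ) else 0) := by
    rw [Finset.sum_boole]
    congr 2
    ext e; simp
  have hv : ∑ v ∈ S, ((m v : ℝ) - φ v) + ∑ v ∈ Sᶜ, ((m v : ℝ) - φ v) = - (N.card : ℝ) := by
    rw [Finset.sum_add_sum_compl, Finset.sum_sub_distrib, hdeg]
    unfold totDeg
    push_cast
    ring
  have hsum : cS ends N S = ∑ e, wE ends N S e + ∑ e, wE ends N Sᶜ e - (N.card : ℝ) := by
    unfold cS
    rw [← Finset.sum_congr rfl (fun e _ => wE_compl_term N S e), Finset.sum_sub_distrib,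
      Finset.sum_add_distrib, ← hNc]
  rw [gS_eq, gS_eq, hsum]
  linarith

/-- reduction of a positivity property to `F`-elementary sets -/
theorem reduce {F : Finset E} (hG : ∀ v w, Conn ends F v w) (hN : ∀ e, e ∉ F → e ∈ N)
    (hdeg : (∑ v : V, φ v) = (totDeg m N : ℝ))
    (Q : ℝ → Prop) (hQ : ∀ x y, Q x → Q y → Q (x + y))
    (he : ∀ B, ConnOn ends F B → ConnOn ends F Bᶜ → Q (gS ends φ m N B)) :
    ∀ S : Finset V, S.Nonempty → S ≠ Finset.univ → Q (gS ends φ m N S) := by
  refine P1 (gS_isAdd φ m N hN) Q hQ (fun A hA hAu => ?_)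
  have hcf : ∀ B : Finset V, gS ends φ m N Bᶜ = cS ends N B - gS ends φ m N B := by
    intro B
    have := gS_add_compl ends φ m N hdeg B
    linarith
  have hadd : IsAdd ends F (fun B => gS ends φ m N Bᶜ) := by
    intro B B' hdisj hno
    simp only [hcf]
    rw [gS_isAdd φ m N hN B B' hdisj hno, cS_isAdd N hN B B' hdisj hno]
    ring
  have := P2 hG hadd Q hQ (fun B hB hBc => he Bᶜ hBc (by rwa [compl_compl])) A hA hAu
  simpa using this

lemma isSemistable_iff :
    IsSemistable ends φ m N ↔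
      ∀ S : Finset V, S.Nonempty → S ≠ Finset.univ → 0 ≤ gS ends φ m N S := by
  unfold IsSemistable gS
  refine forall_congr' fun S => forall_congr' fun _ => forall_congr' fun _ => ?_
  constructor <;> intro h <;> linarith

lemma isStable_iff :
    IsStable ends φ m N ↔
      ∀ S : Finset V, S.Nonempty → S ≠ Finset.univ → 0 < gS ends φ m N S := by
  unfold IsStable gS
  refine forall_congr' fun S => forall_congr' fun _ => forall_congr' fun _ => ?_
  constructor <;> intro h <;> linarith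

end Groth.Agent.Lib.Helper2.PhiStabLib
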