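import Groth.Agent.Lib.Helper2.PhiStab.Defect

set_option autoImplicit false
set_option linter.unusedSectionVars false

/-!
# Translation between `ConnOn` and the prelude's `LabGraph.Connected (indEnds ends S)`;
the elementary-set criterion for (semi)stability (helper2, for the PhiStab rows)
-/

universe u

namespace Groth.Agent.Lib.Helper2.PhiStabLib

open Groth.Agent.Lib.Helper8.MTree PhiStab Finset

variable {V E : Type u} [Fintype V] [Fintype E] [DecidableEq V] [DecidableEq E]
variable (ends : E → V × V)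

lemma lift_connIn (S : Finset V) {a b : V} (h : ConnIn ends Finset.univ S a b) (ha : a ∈ S) :
    ∃ hb : b ∈ S, Relation.ReflTransGen (LabGraph.Adj (indEnds ends S)) ⟨a, ha⟩ ⟨b, hb⟩ := by
  induction h with
  | refl => exact ⟨ha, Relation.ReflTransGen.refl⟩
  | @tail b c _ hbc ih =>
    obtain ⟨hb, hpath⟩ := ih
    obtain ⟨_, hc, e, _, hj⟩ := hbc
    refine ⟨hc, hpath.tail ?_⟩
    have he : e ∈ PhiStab.inner ends S := by
      unfold PhiStab.inner
      rw [Finset.mem_filter]
      rcases hj with hj | hj <;> rw [hj] <;> exact ⟨Finset.mem_univ _, by simpa using ⟨‹_›, ‹_›⟩⟩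
    refine ⟨⟨e, he⟩, ?_⟩
    rcases hj with hj | hj
    · left
      unfold indEnds
      refine Prod.ext (Subtype.ext ?_) (Subtype.ext ?_)
      · simp [hj]
      · simp [hj]
    · right
      unfold indEnds
      refine Prod.ext (Subtype.ext ?_) (Subtype.ext ?_)
      · simp [hj]
      · simp [hj]

lemma connOn_univ_iff (S : Finset V) :
    ConnOn ends Finset.univ S ↔ LabGraph.Connected (indEnds ends S) := by
  constructor
  · rintro ⟨⟨v, hv⟩, h⟩
    refine ⟨⟨⟨v, hv⟩⟩, fun x y => ?_⟩
    obtain ⟨_, hp⟩ := lift_connIn ends S (h x.1 x.2 y.1 y.2) x.2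
    exact hp
  · rintro ⟨⟨v⟩, h⟩
    refine ⟨⟨v.1, v.2⟩, fun x hx y hy => ?_⟩
    have := h ⟨x, hx⟩ ⟨y, hy⟩
    refine Relation.ReflTransGen.lift (fun z : {v // v ∈ S} => z.1) ?_ _ _ this
    rintro a b ⟨e, he⟩
    refine ⟨a.2, b.2, e.1, Finset.mem_univ _, ?_⟩
    unfold indEnds at he
    rcases he with he | he
    · left
      have h1 := congrArg (fun p => (p.1.1, p.2.1)) he
      simpa using h1
    · right
      have h1 := congrArg (fun p => (p.1.1, p.2.1)) he
      simpa using h1

lemma isElementary_iff (S : Finset V) :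
    IsElementary ends S ↔ ConnOn ends Finset.univ S ∧ ConnOn ends Finset.univ Sᶜ := by
  unfold IsElementary
  rw [connOn_univ_iff, connOn_univ_iff]

lemma ConnOn.ne_univ_of_compl {F : Finset E} {S : Finset V} (h : ConnOn ends F Sᶜ) :
    S ≠ Finset.univ := by
  intro hS
  obtain ⟨x, hx⟩ := h.1
  rw [hS] at hx
  simp at hx

/-- the elementary criterion, in defect form -/
theorem elementary_criterion (hconn : LabGraph.Connected ends)
    (φ : V → ℝ) (m : V → ℤ) (N : Finset E) (hdeg : (∑ v : V, φ v) = (totDeg m N : ℝ))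
    (Q : ℝ → Prop) (hQ : ∀ x y, Q x → Q y → Q (x + y)) :
    (∀ S : Finset V, S.Nonempty → S ≠ Finset.univ → Q (gS ends φ m N S)) ↔
      ∀ S : Finset V, IsElementary ends S → Q (gS ends φ m N S) := by
  constructor
  · intro h S hS
    rw [isElementary_iff] at hS
    exact h S hS.1.1 (ConnOn.ne_univ_of_compl ends hS.2)
  · intro h
    refine reduce φ m N (conn_univ_of_connected hconn) (fun e he => absurd (Finset.mem_univ e) he)
      hdeg Q hQ (fun B hB hBc => h B ((isElementary_iff ends B).mpr ⟨hB, hBc⟩))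

end Groth.Agent.Lib.Helper2.PhiStabLib
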