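import Groth.Agent.Lib.Helper2.PhiStab.Elem
import Groth.Agent.S18382

set_option autoImplicit false
set_option linter.unusedSectionVars false

/-!
# Spanning trees: sides of tree edges, classification of tree-elementary sets, integer
solutions of the side-sum system (helper2, for the PhiStab rows)
-/

universe u

namespace Groth.Agent.Lib.Helper2.PhiStabLib

open Groth.Agent.Lib.Helper8.MTree PhiStab Finset

variable {V E : Type u} [Fintype V] [Fintype E] [DecidableEq V] [DecidableEq E]
variable (ends : E → V × V) (T : Finset E)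

open Classical in
/-- the side of the tree edge `e` containing its first endpoint -/
noncomputable def sideT (e : E) : Finset V :=
  Finset.univ.filter (fun v => Conn ends (T.erase e) (ends e).1 v)

variable {ends T}
variable {e e' : E} {v : V} {B : Finset V}

lemma mem_sideT : v ∈ sideT ends T e ↔ Conn ends (T.erase e) (ends e).1 v := by
  classical
  unfold sideT
  simp

lemma fst_mem_sideT : (ends e).1 ∈ sideT ends T e := mem_sideT.mpr (Conn.refl _ _)

lemma snd_notMem_sideT (hac : Acyc ends T) (he : e ∈ T) : (ends e).2 ∉ sideT ends T e := by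
  intro hmem
  have hc := mem_sideT.mp hmem
  obtain ⟨P, hPF, hP⟩ := exists_par_of_conn ends hc
  have heP : e ∉ P := fun h => (Finset.mem_erase.mp (hPF h)).1 rfl
  have hpar : par ends (insert e P) = 0 := by
    rw [par_insert ends heP, hP,
      pe_of_joins ends (Or.inl rfl : Joins ends e (ends e).1 (ends e).2)]
    exact zmod2_add_self _
  have hsub : insert e P ⊆ T := by
    intro x hx
    rcases Finset.mem_insert.mp hx with rfl | hx
    · exact he
    · exact (Finset.mem_erase.mp (hPF hx)).2
  exact Finset.insert_ne_empty e P (hac _ hsub hpar)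

lemma sideT_closed (he' : e' ∈ T) (hne : e' ≠ e) :
    (ends e').1 ∈ sideT ends T e ↔ (ends e').2 ∈ sideT ends T e := by
  rw [mem_sideT, mem_sideT]
  have hj : Joins ends e' (ends e').1 (ends e').2 := Or.inl rfl
  have hmem : e' ∈ T.erase e := Finset.mem_erase.mpr ⟨hne, he'⟩
  constructor
  · intro h; exact h.trans (Conn.of_joins hmem hj)
  · intro h; exact h.trans (Conn.of_joins hmem hj.symm)

lemma cross_sideT_iff (hac : Acyc ends T) (he : e ∈ T) (he' : e' ∈ T) :
    Cross ends (sideT ends T e) e' ↔ e' = e := by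
  constructor
  · intro h
    by_contra hne
    have := sideT_closed (ends := ends) (T := T) (e := e) he' hne
    unfold Cross at h
    tauto
  · rintro rfl
    exact Or.inl ⟨fst_mem_sideT, snd_notMem_sideT hac he⟩

lemma connIn_erase {a b : V} (hnot : (ends e).1 ∉ B ∨ (ends e).2 ∉ B)
    (h : ConnIn ends T B a b) : Conn ends (T.erase e) a b := by
  refine Relation.ReflTransGen.mono ?_ _ _ h
  rintro x y ⟨hx, hy, e₁, he₁, hj⟩
  refine ⟨e₁, Finset.mem_erase.mpr ⟨?_, he₁⟩, hj⟩
  rintro rfl
  rcases hj with hj | hj <;> rw [hj] at hnot <;> simp only at hnot <;> tauto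

lemma eq_sideT (hac : Acyc ends T) (he : e ∈ T) (hB : ConnOn ends T B) (hBc : ConnOn ends T Bᶜ)
    (h1 : (ends e).1 ∈ B) (h2 : (ends e).2 ∉ B) : B = sideT ends T e := by
  ext v
  constructor
  · intro hv
    exact mem_sideT.mpr (connIn_erase (Or.inr h2) (hB.2 _ h1 v hv))
  · intro hv
    by_contra hvB
    have h3 : Conn ends (T.erase e) (ends e).2 v :=
      connIn_erase (Or.inl (by simpa using h1)) (hBc.2 _ (Finset.mem_compl.mpr h2) v
        (Finset.mem_compl.mpr hvB))
    exact snd_notMem_sideT hac he (mem_sideT.mpr ((mem_sideT.mp hv).trans h3.symm))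

/-- classification of tree-elementary sets -/
theorem exists_eq_sideT (hG : ∀ v w, Conn ends T v w) (hac : Acyc ends T)
    (hB : ConnOn ends T B) (hBc : ConnOn ends T Bᶜ) :
    ∃ e ∈ T, B = sideT ends T e ∨ Bᶜ = sideT ends T e := by
  obtain ⟨b, hb⟩ := hB.1
  obtain ⟨b', hb'⟩ := hBc.1
  obtain ⟨x, hx, u, hu, e, he, hj⟩ := exists_boundary_step (hG b b') hb (Finset.mem_compl.mp hb')
  refine ⟨e, he, ?_⟩
  rcases hj with hj | hj
  · left
    apply eq_sideT hac he hB hBc
    · rw [hj]; exact hx
    · rw [hj]; exact hu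
  · right
    apply eq_sideT hac he hBc (by rwa [compl_compl])
    · rw [hj]; exact Finset.mem_compl.mpr hu
    · rw [hj]; simpa using hx

lemma cS_sideT (hac : Acyc ends T) (he : e ∈ T) : cS ends Tᶜ (sideT ends T e) = 1 := by
  unfold cS
  rw [Finset.sum_eq_single e]
  · rw [if_pos]
    exact ⟨(cross_sideT_iff hac he he).mpr rfl, by simpa using he⟩
  · intro e' _ hne
    rw [if_neg]
    rintro ⟨hc, hn⟩
    have he' : e' ∈ T := by simpa using hn
    exact hne ((cross_sideT_iff hac he he').mp hc)
  · intro h; exact absurd (Finset.mem_univ e) h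

lemma connOn_singleton (v : V) : ConnOn ends T {v} := by
  refine ⟨⟨v, Finset.mem_singleton_self v⟩, fun a ha b hb => ?_⟩
  rw [Finset.mem_singleton] at ha hb
  rw [ha, hb]
  exact ConnIn.refl v

/-- a property of sums over sides and co-sides propagates to complements of vertices -/
theorem sum_compl_singleton {M : Type*} [AddCommMonoid M] (hG : ∀ v w, Conn ends T v w)
    (hac : Acyc ends T) (f : V → M) (Q : M → Prop) (hQ : ∀ x y, Q x → Q y → Q (x + y))
    (h1 : ∀ e ∈ T, Q (∑ v ∈ sideT ends T e, f v)) (h2 : ∀ e ∈ T, Q (∑ v ∈ (sideT ends T e)ᶜ, f v))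
    (v : V) (hv : ({v} : Finset V) ≠ Finset.univ) : Q (∑ w ∈ ({v} : Finset V)ᶜ, f w) := by
  have hadd : IsAdd ends T (fun B : Finset V => ∑ w ∈ B, f w) := by
    intro A B hdisj _
    exact Finset.sum_union hdisj
  refine P2 hG hadd Q hQ (fun B hB hBc => ?_) {v} (connOn_singleton v) hv
  obtain ⟨e, he, h | h⟩ := exists_eq_sideT hG hac hB hBc
  · rw [h]; exact h1 e he
  · have : B = (sideT ends T e)ᶜ := by rw [← h, compl_compl]
    rw [this]; exact h2 e he

end Groth.Agent.Lib.Helper2.PhiStabLib
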