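import Groth.Agent.Lib.Helper2.PhiStab.Tree

set_option autoImplicit false
set_option linter.unusedSectionVars false

/-!
# Integer multidegrees with prescribed degrees on the sides of a spanning tree
(helper2, for the PhiStab rows)
-/

universe u

namespace Groth.Agent.Lib.Helper2.PhiStabLib

open Groth.Agent.Lib.Helper8.MTree PhiStab Finset

variable {V E : Type u} [Fintype V] [Fintype E] [DecidableEq V] [DecidableEq E]
variable {ends : E → V × V} {T : Finset E}

lemma conn_of_isTree (hT : DualGr.IsTree (spanEnds ends T)) (v w : V) : Conn ends T v w := by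
  refine Relation.ReflTransGen.mono ?_ _ _ (hT.1.2 v w)
  rintro a b ⟨e, he⟩
  exact ⟨e.1, e.2, he⟩

lemma acyc_of_isTree (hT : DualGr.IsTree (spanEnds ends T)) : Acyc ends T :=
  (isForest_subtype_iff ends T).mp hT.2

lemma side_spanEnds (e' : {e // e ∈ T}) : side (spanEnds ends T) e' = sideT ends T e'.1 := by
  classical
  ext v
  unfold side sideT
  simp only [Finset.mem_filter, Finset.mem_univ, true_and]
  constructor
  · intro h
    refine Relation.ReflTransGen.mono ?_ _ _ h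
    rintro a b ⟨e'', h⟩
    exact ⟨e''.1.1, Finset.mem_erase.mpr ⟨fun h => (Finset.mem_erase.mp e''.2).1 (Subtype.ext h),
      e''.1.2⟩, h⟩
  · intro h
    refine Relation.ReflTransGen.mono ?_ _ _ h
    rintro a b ⟨e₀, he₀, hj⟩
    exact ⟨⟨⟨e₀, (Finset.mem_erase.mp he₀).2⟩, Finset.mem_erase.mpr
      ⟨fun h => (Finset.mem_erase.mp he₀).1 (congrArg Subtype.val h), Finset.mem_univ _⟩⟩, hj⟩

theorem exists_m (hT : DualGr.IsTree (spanEnds ends T)) (d : E → ℤ) (b : ℤ) :
    ∃ m : V → ℤ, totDeg m Tᶜ = b ∧ ∀ e ∈ T, degOn ends m Tᶜ (sideT ends T e) = d e := by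
  classical
  have hG := conn_of_isTree hT
  have hac := acyc_of_isTree hT
  let k : E → ℤ := fun e => d e - ((Tᶜ ∩ PhiStab.inner ends (sideT ends T e)).card : ℤ)
  let k₀ : ℤ := b - (Tᶜ.card : ℤ)
  obtain ⟨ψ, ⟨hψ1, hψ2⟩, _⟩ := Groth.Agent.S18382.result (spanEnds ends T) hT
    (fun e' => (k e'.1 : ℝ)) (k₀ : ℝ)
  have hψ1' : ∀ e ∈ T, (∑ v ∈ sideT ends T e, ψ v) = (k e : ℝ) := by
    intro e he
    have := hψ1 ⟨e, he⟩
    rwa [side_spanEnds] at this
  have hψ3 : ∀ e ∈ T, (∑ v ∈ (sideT ends T e)ᶜ, ψ v) = ((k₀ - k e : ℤ) : ℝ) := by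
    intro e he
    have := Finset.sum_add_sum_compl (sideT ends T e) ψ
    rw [hψ1' e he, hψ2] at this
    push_cast
    linarith
  have hint : ∀ v, ∃ n : ℤ, ψ v = (n : ℝ) := by
    intro v
    by_cases hv : ({v} : Finset V) = Finset.univ
    · refine ⟨k₀, ?_⟩
      rw [← hψ2, ← hv, Finset.sum_singleton]
    · obtain ⟨n, hn⟩ := sum_compl_singleton hG hac ψ (fun x => ∃ n : ℤ, x = (n : ℝ))
        (fun x y ⟨n, hn⟩ ⟨n', hn'⟩ => ⟨n + n', by rw [hn, hn']; push_cast; ring⟩)
        (fun e he => ⟨k e, hψ1' e he⟩) (fun e he => ⟨k₀ - k e, hψ3 e he⟩) v hv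
      have := Finset.sum_add_sum_compl ({v} : Finset V) ψ
      rw [Finset.sum_singleton, hn, hψ2] at this
      refine ⟨k₀ - n, ?_⟩
      push_cast
      linarith
  choose m hm using hint
  refine ⟨m, ?_, ?_⟩
  · have h1 : ((∑ v : V, m v : ℤ) : ℝ) = (k₀ : ℝ) := by
      rw [← hψ2]
      push_cast
      exact Finset.sum_congr rfl fun v _ => (hm v).symm
    have h2 : (∑ v : V, m v) = k₀ := by exact_mod_cast h1
    unfold totDeg
    rw [h2]
    simp [k₀]
  · intro e he
    have h1 : ((∑ v ∈ sideT ends T e, m v : ℤ) : ℝ) = (k e : ℝ) := by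
      rw [← hψ1' e he]
      push_cast
      exact Finset.sum_congr rfl fun v _ => (hm v).symm
    have h2 : (∑ v ∈ sideT ends T e, m v) = k e := by exact_mod_cast h1
    unfold degOn
    rw [h2]
    simp [k]

end Groth.Agent.Lib.Helper2.PhiStabLib
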