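import Groth.Agent.Lib.Helper2.PhiStab.TreeSol

set_option autoImplicit false
set_option linter.unusedSectionVars false

/-!
# Stable data supported off a spanning tree (helper2, for the PhiStab rows)
-/

universe u

namespace Groth.Agent.Lib.Helper2.PhiStabLib

open Groth.Agent.Lib.Helper8.MTree PhiStab Finset

variable {V E : Type u} [Fintype V] [Fintype E] [DecidableEq V] [DecidableEq E]
variable {ends : E → V × V} {T : Finset E}

variable (ends) in
/-- the threshold `Σ_S φ - cut S / 2` -/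
noncomputable def aE (φ : V → ℝ) (S : Finset V) : ℝ :=
  (∑ v ∈ S, φ v) - (LabGraph.cut ends S : ℝ) / 2

lemma gS_eq_sub_aE (φ : V → ℝ) (m : V → ℤ) (N : Finset E) (S : Finset V) :
    gS ends φ m N S = (degOn ends m N S : ℝ) - aE ends φ S := by
  unfold gS aE; ring

lemma sideT_nonempty (e : E) : (sideT ends T e).Nonempty := ⟨_, fst_mem_sideT⟩

lemma sideT_ne_univ (hac : Acyc ends T) {e : E} (he : e ∈ T) : sideT ends T e ≠ Finset.univ := by
  intro h
  exact snd_notMem_sideT hac he (h ▸ Finset.mem_univ _)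

lemma compl_sideT_nonempty (hac : Acyc ends T) {e : E} (he : e ∈ T) :
    (sideT ends T e)ᶜ.Nonempty := ⟨_, Finset.mem_compl.mpr (snd_notMem_sideT hac he)⟩

lemma compl_sideT_ne_univ (e : E) : (sideT ends T e)ᶜ ≠ Finset.univ := by
  intro h
  have := Finset.mem_univ (ends e).1
  rw [← h, Finset.mem_compl] at this
  exact this fst_mem_sideT

lemma gS_compl_sideT (hac : Acyc ends T) {φ : V → ℝ} {m : V → ℤ}
    (hdeg : (∑ v : V, φ v) = (totDeg m Tᶜ : ℝ)) {e : E} (he : e ∈ T) :
    gS ends φ m Tᶜ (sideT ends T e)ᶜ = 1 - gS ends φ m Tᶜ (sideT ends T e) := by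
  have := gS_add_compl ends φ m Tᶜ hdeg (sideT ends T e)
  rw [cS_sideT hac he] at this
  linarith

/-- (semi)stability of a datum supported off a spanning tree can be tested on the sides -/
theorem stab_of_sides (hT : DualGr.IsTree (spanEnds ends T)) {φ : V → ℝ} {m : V → ℤ}
    (hdeg : (∑ v : V, φ v) = (totDeg m Tᶜ : ℝ))
    (Q : ℝ → Prop) (hQ : ∀ x y, Q x → Q y → Q (x + y))
    (h1 : ∀ e ∈ T, Q (gS ends φ m Tᶜ (sideT ends T e)))
    (h2 : ∀ e ∈ T, Q (1 - gS ends φ m Tᶜ (sideT ends T e))) :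
    ∀ S : Finset V, S.Nonempty → S ≠ Finset.univ → Q (gS ends φ m Tᶜ S) := by
  have hG := conn_of_isTree hT
  have hac := acyc_of_isTree hT
  refine reduce φ m Tᶜ hG (fun e he => Finset.mem_compl.mpr he) hdeg Q hQ (fun B hB hBc => ?_)
  obtain ⟨e, he, h | h⟩ := exists_eq_sideT hG hac hB hBc
  · rw [h]; exact h1 e he
  · have hB' : B = (sideT ends T e)ᶜ := by rw [← h, compl_compl]
    rw [hB', gS_compl_sideT hac hdeg he]
    exact h2 e he

/-- for a stable datum off a spanning tree, the defect on each side lies in `(0,1)` -/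
lemma stable_side_bounds (hT : DualGr.IsTree (spanEnds ends T)) {φ : V → ℝ} {m : V → ℤ}
    (hdeg : (∑ v : V, φ v) = (totDeg m Tᶜ : ℝ)) (hst : IsStable ends φ m Tᶜ) {e : E} (he : e ∈ T) :
    0 < gS ends φ m Tᶜ (sideT ends T e) ∧ gS ends φ m Tᶜ (sideT ends T e) < 1 := by
  have hac := acyc_of_isTree hT
  rw [isStable_iff] at hst
  have h1 := hst _ (sideT_nonempty e) (sideT_ne_univ hac he)
  have h2 := hst _ (compl_sideT_nonempty hac he) (compl_sideT_ne_univ e)
  rw [gS_compl_sideT hac hdeg he] at h2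
  exact ⟨h1, by linarith⟩

/-- nondegeneracy forces the thresholds on the sides of a spanning tree to be non-integral -/
theorem aE_sideT_ne_int (hT : DualGr.IsTree (spanEnds ends T)) (b : ℤ) (φ : V → ℝ)
    (hφ : (∑ v : V, φ v) = (b : ℝ)) (hnd : Nondegenerate ends φ) {e₀ : E} (he₀ : e₀ ∈ T) (n₀ : ℤ) :
    aE ends φ (sideT ends T e₀) ≠ (n₀ : ℝ) := by
  classical
  intro hEq
  have hac := acyc_of_isTree hT
  obtain ⟨m, hm1, hm2⟩ := exists_m hT
    (fun e => if e = e₀ then n₀ else ⌈aE ends φ (sideT ends T e)⌉) b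
  have hdeg : (∑ v : V, φ v) = (totDeg m Tᶜ : ℝ) := by rw [hφ, hm1]
  have hg : ∀ e ∈ T, 0 ≤ gS ends φ m Tᶜ (sideT ends T e) ∧ gS ends φ m Tᶜ (sideT ends T e) ≤ 1 := by
    intro e he
    rw [gS_eq_sub_aE, hm2 e he]
    by_cases h : e = e₀
    · subst h
      rw [if_pos rfl, hEq]
      simp
    · rw [if_neg h]
      have h1 := Int.le_ceil (aE ends φ (sideT ends T e))
      have h2 := Int.ceil_lt_add_one (aE ends φ (sideT ends T e))
      constructor <;> linarith
  have hss : IsSemistable ends φ m Tᶜ := by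
    rw [isSemistable_iff]
    exact stab_of_sides hT hdeg (fun x => 0 ≤ x) (fun x y hx hy => add_nonneg hx hy)
      (fun e he => (hg e he).1) (fun e he => by have := (hg e he).2; linarith)
  have hst := hnd m Tᶜ hdeg hss
  have := (stable_side_bounds hT hdeg hst he₀).1
  rw [gS_eq_sub_aE, hm2 e₀ he₀, if_pos rfl, hEq] at this
  simp at this

/-- existence and uniqueness of the stable multidegree off a spanning tree -/
theorem existsUnique_stable (hT : DualGr.IsTree (spanEnds ends T)) (b : ℤ) (φ : V → ℝ)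
    (hφ : (∑ v : V, φ v) = (b : ℝ)) (hnd : Nondegenerate ends φ) :
    ∃! m : V → ℤ, totDeg m Tᶜ = b ∧ IsStable ends φ m Tᶜ := by
  classical
  have hG := conn_of_isTree hT
  have hac := acyc_of_isTree hT
  -- existence
  obtain ⟨m, hm1, hm2⟩ := exists_m hT (fun e => ⌊aE ends φ (sideT ends T e)⌋ + 1) b
  have hdeg : (∑ v : V, φ v) = (totDeg m Tᶜ : ℝ) := by rw [hφ, hm1]
  have hg : ∀ e ∈ T, 0 < gS ends φ m Tᶜ (sideT ends T e) ∧ gS ends φ m Tᶜ (sideT ends T e) < 1 := by
    intro e he
    rw [gS_eq_sub_aE, hm2 e he]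
    have h1 := Int.floor_le (aE ends φ (sideT ends T e))
    have h2 := Int.lt_floor_add_one (aE ends φ (sideT ends T e))
    have h3 := aE_sideT_ne_int hT b φ hφ hnd he ⌊aE ends φ (sideT ends T e)⌋
    have h4 : (⌊aE ends φ (sideT ends T e)⌋ : ℝ) < aE ends φ (sideT ends T e) :=
      lt_of_le_of_ne h1 (Ne.symm h3)
    push_cast
    constructor <;> linarith
  have hst : IsStable ends φ m Tᶜ := by
    rw [isStable_iff]
    exact stab_of_sides hT hdeg (fun x => 0 < x) (fun x y hx hy => add_pos hx hy)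
      (fun e he => (hg e he).1) (fun e he => by have := (hg e he).2; linarith)
  refine ⟨m, ⟨hm1, hst⟩, ?_⟩
  -- uniqueness
  rintro m' ⟨hm'1, hst'⟩
  have hdeg' : (∑ v : V, φ v) = (totDeg m' Tᶜ : ℝ) := by rw [hφ, hm'1]
  have hside : ∀ e ∈ T, ∑ v ∈ sideT ends T e, (m' v - m v) = 0 := by
    intro e he
    have b1 := stable_side_bounds hT hdeg hst he
    have b2 := stable_side_bounds hT hdeg' hst' he
    rw [gS_eq_sub_aE] at b1 b2
    have h1 : ((degOn ends m' Tᶜ (sideT ends T e) - degOn ends m Tᶜ (sideT ends T e) : ℤ) : ℝ) < 1 := by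
      push_cast; linarith
    have h2 : (-1 : ℝ) < ((degOn ends m' Tᶜ (sideT ends T e) - degOn ends m Tᶜ (sideT ends T e) : ℤ) : ℝ) := by
      push_cast; linarith
    have h3 : degOn ends m' Tᶜ (sideT ends T e) - degOn ends m Tᶜ (sideT ends T e) < 1 := by
      exact_mod_cast h1
    have h4 : -1 < degOn ends m' Tᶜ (sideT ends T e) - degOn ends m Tᶜ (sideT ends T e) := by
      exact_mod_cast h2
    have h5 : degOn ends m' Tᶜ (sideT ends T e) - degOn ends m Tᶜ (sideT ends T e) = 0 := by omega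
    unfold degOn at h5
    rw [Finset.sum_sub_distrib]
    linarith
  have htot : ∑ v : V, (m' v - m v) = 0 := by
    have : totDeg m' Tᶜ = totDeg m Tᶜ := by rw [hm1, hm'1]
    unfold totDeg at this
    rw [Finset.sum_sub_distrib]
    linarith
  have hco : ∀ e ∈ T, ∑ v ∈ (sideT ends T e)ᶜ, (m' v - m v) = 0 := by
    intro e he
    have := Finset.sum_add_sum_compl (sideT ends T e) (fun v => m' v - m v)
    rw [hside e he, htot] at this
    linarith
  funext v
  by_cases hv : ({v} : Finset V) = Finset.univ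
  · have : ∑ w : V, (m' w - m w) = m' v - m v := by
      rw [← hv, Finset.sum_singleton]
    rw [htot] at this
    linarith
  · have h0 := sum_compl_singleton hG hac (fun w => m' w - m w) (fun x => x = 0)
      (fun x y hx hy => by rw [hx, hy, add_zero]) hside hco v hv
    have := Finset.sum_add_sum_compl ({v} : Finset V) (fun w => m' w - m w)
    rw [Finset.sum_singleton, h0, htot] at this
    linarith

end Groth.Agent.Lib.Helper2.PhiStabLib
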